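import Mathlib

set_option autoImplicit false
set_option linter.unusedSectionVars false
universe u v

open Polynomial
open scoped Pointwise

namespace Groth.Agent.InertSep31

variable {B : Type u} [CommRing B] {Γ : Type v} [Group Γ] [MulSemiringAction Γ B]

/-- the subring of invariants of a subgroup -/
def fixSub (H : Subgroup Γ) : Subring B where
  carrier := {b | ∀ γ ∈ H, γ • b = b}
  one_mem' γ _ := smul_one γ
  mul_mem' {a b} ha hb γ hγ := by rw [smul_mul', ha γ hγ, hb γ hγ]
  zero_mem' γ _ := smul_zero γ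
  add_mem' {a b} ha hb γ hγ := by rw [smul_add, ha γ hγ, hb γ hγ]
  neg_mem' {a} ha γ hγ := by rw [smul_neg, ha γ hγ]

variable [Finite Γ] (P : Ideal B) [P.IsMaximal]

local notation "mk" => Ideal.Quotient.mk P

/-- inverses exist in the image of the invariants -/
theorem exists_inv (H : Subgroup Γ) {z : B} (hz : z ∈ fixSub H) (hzP : z ∉ P) :
    ∃ s ∈ fixSub H, mk z * mk s = (1 : B ⧸ P) := by
  classical
  cases nonempty_fintype H
  obtain ⟨w, i, hi, hw⟩ := Ideal.IsMaximal.exists_inv ‹P.IsMaximal› hzP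
  let Q : B[X] := ∏ τ : H, (1 - X * C ((τ : Γ) • w))
  have hcoef : ∀ (γ : Γ), γ ∈ H → ∀ n, γ • Q.coeff n = Q.coeff n := by
    intro γ hγ n
    rw [← Polynomial.coeff_smul]
    congr 1
    simp only [Q, Finset.smul_prod', smul_sub, smul_one, smul_mul', Polynomial.smul_X,
      Polynomial.smul_C, smul_smul]
    exact Fintype.prod_equiv (Equiv.mulLeft (⟨γ, hγ⟩ : H)) _ _ (fun τ => rfl)
  refine ⟨-(Q.divX.eval z), neg_mem ?_, ?_⟩
  · intro γ hγ
    rw [← Polynomial.smul_eval_smul, hz γ hγ]
    congr 1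
    ext n
    rw [Polynomial.coeff_smul, Polynomial.coeff_divX, hcoef γ hγ]
  · have h0 : Q.coeff 0 = 1 := by
      rw [Polynomial.coeff_zero_eq_eval_zero]
      simp [Q, Polynomial.eval_prod]
    have h1 : Q.eval z = z * Q.divX.eval z + 1 := by
      conv_lhs => rw [← Polynomial.X_mul_divX_add Q]
      simp [h0]
    have h2 : Q.eval z ∈ P := by
      rw [Polynomial.eval_prod, Ideal.IsPrime.prod_mem_iff]
      refine ⟨1, Finset.mem_univ _, ?_⟩
      have : (1 : B) - w * z = i := by rw [← hw]; ring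
      simp [this, hi]
    rw [← map_mul, ← sub_eq_zero, ← map_one mk, ← map_sub, Ideal.Quotient.eq_zero_iff_mem]
    rw [h1] at h2
    convert neg_mem h2 using 1; ring

/-- the image of the invariants in the residue field, a subfield -/
noncomputable def resFix (H : Subgroup Γ) :
    letI := Ideal.Quotient.field P
    Subfield (B ⧸ P) :=
  letI := Ideal.Quotient.field P
  { (fixSub (B := B) H).map mk with
    inv_mem' := by
      rintro x ⟨z, hz, rfl⟩
      by_cases hzP : z ∈ P
      · exact ⟨0, (fixSub H).zero_mem, by rw [Ideal.Quotient.eq_zero_iff_mem.2 hzP, inv_zero, map_zero]⟩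
      · obtain ⟨s, hs, hzs⟩ := exists_inv P H hz hzP
        exact ⟨s, hs, eq_inv_of_mul_eq_one_right hzs⟩ }

theorem inertia_normal {γ τ : Γ} (hγ : γ • P = P) (hτ : τ ∈ P.inertia Γ) :
    γ⁻¹ * τ * γ ∈ P.inertia Γ := by
  intro x
  have := Ideal.smul_mem_pointwise_smul γ⁻¹ _ P (hτ (γ • x))
  rw [smul_sub, inv_smul_smul, inv_smul_eq_iff.2 hγ.symm] at this
  simpa [mul_smul] using this

theorem smul_mem_fixSub {γ : Γ} (hγ : γ • P = P) {y : B} (hy : y ∈ fixSub (P.inertia Γ)) :
    γ • y ∈ fixSub (P.inertia Γ) := by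
  intro τ hτ
  have h := hy _ (inertia_normal P hγ hτ)
  rw [mul_smul, mul_smul, inv_smul_eq_iff] at h
  exact h

theorem smul_mk_eq {γ : Γ} (hγ : γ • P = P) {a b : B} (h : mk a = mk b) :
    mk (γ • a) = mk (γ • b) := by
  rw [Ideal.Quotient.eq] at h ⊢
  rw [← smul_sub, ← hγ]
  exact Ideal.smul_mem_pointwise_smul γ _ P h

/-- an element of the stabilizer fixing the residues of all inertia invariants lies in inertia -/
theorem mem_inertia_of_fix {γ : Γ} (hγ : γ • P = P)
    (h : ∀ y ∈ fixSub (P.inertia Γ), mk (γ • y) = mk y) : γ ∈ P.inertia Γ := by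
  classical
  cases nonempty_fintype (P.inertia Γ)
  intro z
  let q : B[X] := ∏ τ : P.inertia Γ, (X - C ((τ : Γ) • z))
  have hcoef : ∀ n, q.coeff n ∈ fixSub (P.inertia Γ) := by
    intro n σ hσ
    rw [← Polynomial.coeff_smul]
    congr 1
    simp only [q, Finset.smul_prod', smul_sub, Polynomial.smul_X, Polynomial.smul_C, smul_smul]
    exact Fintype.prod_equiv (Equiv.mulLeft (⟨σ, hσ⟩ : P.inertia Γ)) _ _ (fun τ => rfl)
  have h1 : (γ • q).map mk = q.map mk := by
    ext n
    rw [Polynomial.coeff_map, Polynomial.coeff_map, Polynomial.coeff_smul]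
    exact h _ (hcoef n)
  have h2 : ((γ • q).map mk).eval (mk (γ • z)) = 0 := by
    rw [Polynomial.eval_map_apply, Polynomial.smul_eval_smul, Polynomial.eval_prod,
      Finset.prod_eq_zero (Finset.mem_univ (1 : P.inertia Γ)) (by simp), smul_zero, map_zero]
  rw [h1, Polynomial.map_prod, Polynomial.eval_prod] at h2
  haveI : IsDomain (B ⧸ P) := Ideal.Quotient.isDomain P
  obtain ⟨τ, -, hτ⟩ := Finset.prod_eq_zero_iff.1 h2
  simp only [Polynomial.map_sub, Polynomial.map_X, Polynomial.map_C, eval_sub, eval_X, eval_C,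
    sub_eq_zero] at hτ
  rw [Submodule.mem_toAddSubgroup, ← Ideal.Quotient.eq, hτ, Ideal.Quotient.eq]
  exact τ.2 z

set_option maxHeartbeats 800000 in
/-- residues of inertia invariants fixed by the stabilizer come from invariants -/
theorem mem_resFix_top {z : B} (hz : z ∈ fixSub (P.inertia Γ))
    (hfix : ∀ γ : Γ, γ • P = P → mk (γ • z) = mk z) :
    letI := Ideal.Quotient.field P
    mk z ∈ resFix (Γ := Γ) P ⊤ := by
  classical
  letI := Ideal.Quotient.field P
  set T := P.inertia Γ with hT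
  cases nonempty_fintype Γ
  cases nonempty_fintype T
  cases nonempty_fintype (Γ ⧸ T)
  -- an idempotent-like element
  have hex : ∀ γ : Γ, ∃ a : B, a ∉ P ∧ (γ • P ≠ P → a ∈ γ • P) := by
    intro γ
    by_cases h : γ • P = P
    · exact ⟨1, P.ne_top_iff_one.1 ‹P.IsMaximal›.ne_top, fun h' => absurd h h'⟩
    · obtain ⟨a, ha, ha'⟩ := SetLike.not_le_iff_exists.1 fun hle => h (smul_eq_of_smul_le hle)
      exact ⟨a, ha', fun _ => ha⟩
  choose a ha ha' using hex
  have haP : ∏ γ, a γ ∉ P := by
    rw [Ideal.IsPrime.prod_mem_iff]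
    rintro ⟨γ, -, h⟩
    exact ha γ h
  obtain ⟨b, p, hp, hwp⟩ := Ideal.IsMaximal.exists_inv ‹P.IsMaximal› haP
  set w := b * ∏ γ, a γ with hwdef
  have hw : ∀ γ : Γ, γ • P ≠ P → w ∈ γ • P := fun γ hγ =>
    Ideal.mul_mem_left _ _ (Ideal.mem_of_dvd _ (Finset.dvd_prod_of_mem a (Finset.mem_univ γ)) (ha' γ hγ))
  let e : B := ∏ τ : T, (τ : Γ) • w
  have he1 : mk e = 1 := by
    rw [map_prod]
    refine Finset.prod_eq_one fun τ _ => ?_
    have h1 : mk ((τ : Γ) • w) = mk w := Ideal.Quotient.eq.2 (τ.2 w)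
    rw [h1, ← map_one mk, Ideal.Quotient.eq, ← hwp, sub_add_cancel_left]
    exact neg_mem hp
  have heT : e ∈ fixSub T := by
    intro σ hσ
    simp only [e, Finset.smul_prod', smul_smul]
    exact Fintype.prod_equiv (Equiv.mulLeft (⟨σ, hσ⟩ : T)) _ _ (fun τ => rfl)
  have he0 : ∀ γ : Γ, γ • P ≠ P → γ • e ∈ P := by
    intro γ hγ
    have hne : γ⁻¹ • P ≠ P := fun h => hγ (inv_smul_eq_iff.1 h).symm
    have hw' : γ • w ∈ P := by
      have := Ideal.smul_mem_pointwise_smul γ _ _ (hw γ⁻¹ hne)
      rwa [smul_inv_smul] at this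
    simp only [e, Finset.smul_prod']
    rw [Ideal.IsPrime.prod_mem_iff]
    exact ⟨1, Finset.mem_univ _, by simpa using hw'⟩
  -- sum over cosets
  let tr : B → B := fun v => ∑ q : Γ ⧸ T, q.out • v
  have htr : ∀ v ∈ fixSub T, tr v ∈ fixSub (⊤ : Subgroup Γ) := by
    intro v hv γ _
    simp only [tr, Finset.smul_sum, smul_smul]
    refine Fintype.sum_equiv (MulAction.toPerm γ) _ _ fun q => ?_
    have h1 : ((γ * q.out : Γ) : Γ ⧸ T) = (((γ • q : Γ ⧸ T).out : Γ) : Γ ⧸ T) := by
      rw [QuotientGroup.out_eq', ← smul_eq_mul, ← MulAction.Quotient.smul_coe, QuotientGroup.out_eq']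
    rw [QuotientGroup.eq] at h1
    have h2 := hv _ h1
    rw [mul_smul, inv_smul_eq_iff] at h2
    exact h2.symm
  let D := {q : Γ ⧸ T // q.out • P = P}
  let χ : D → (fixSub (B := B) T →* B ⧸ P) := fun q =>
    { toFun := fun s => mk (q.1.out • (s : B))
      map_one' := by simp
      map_mul' := fun a b => by simp [smul_mul'] }
  have hχ : Function.Injective χ := by
    rintro ⟨q, hq⟩ ⟨q', hq'⟩ hqq
    apply Subtype.ext
    change q = q'
    refine (QuotientGroup.out_eq' q).symm.trans (Eq.trans ?_ (QuotientGroup.out_eq' q'))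
    rw [QuotientGroup.eq]
    have hg : (q.out⁻¹ * q'.out) • P = P := by rw [mul_smul, hq', inv_smul_eq_iff, hq]
    refine mem_inertia_of_fix P hg fun y hy => ?_
    have h := DFunLike.congr_fun hqq ⟨y, hy⟩
    simp only [χ, MonoidHom.coe_mk, OneHom.coe_mk] at h
    rw [mul_smul]
    have h3 := smul_mk_eq P (γ := q.out⁻¹) (inv_smul_eq_iff.2 hq.symm) h
    rw [inv_smul_smul] at h3
    exact h3.symm
  have hone : ((1 : Γ) : Γ ⧸ T).out • P = P := by
    obtain ⟨⟨τ, hτ⟩, hτe⟩ := QuotientGroup.mk_out_eq_mul T (1 : Γ)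
    rw [hτe, one_mul]
    exact Ideal.inertia_le_stabilizer P hτ
  obtain ⟨u, hu⟩ : ∃ u : fixSub (B := B) T, ∑ q : D, χ q u ≠ 0 := by
    by_contra hne
    push Not at hne
    have hli := (linearIndependent_monoidHom (fixSub (B := B) T) (B ⧸ P)).comp χ hχ
    have hz0 := Fintype.linearIndependent_iff.1 hli (fun _ => 1) (by
      funext u
      simpa [Finset.sum_apply] using hne u) ⟨_, hone⟩
    exact one_ne_zero hz0
  have key : ∀ a ∈ fixSub T, (∀ γ : Γ, γ • P = P → mk (γ • a) = mk a) →
      mk (tr (a * e * u)) = mk a * ∑ q : D, χ q u := by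
    intro a ha hafix
    rw [map_sum, Finset.mul_sum]
    rw [← Finset.sum_filter_add_sum_filter_not Finset.univ (fun q : Γ ⧸ T => q.out • P = P),
      Finset.sum_eq_zero (s := Finset.univ.filter fun q : Γ ⧸ T => ¬ q.out • P = P), add_zero]
    · rw [Finset.sum_subtype (p := fun q : Γ ⧸ T => q.out • P = P) _ (by simp)]
      refine Finset.sum_congr rfl fun q _ => ?_
      have h1 : mk (q.1.out • e) = 1 := by
        rw [smul_mk_eq P q.2 (b := 1) (by rw [he1, map_one]), smul_one, map_one]
      simp only [χ, MonoidHom.coe_mk, OneHom.coe_mk, smul_mul', map_mul, h1, mul_one,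
        hafix _ q.2]
    · intro q hq
      rw [Finset.mem_filter] at hq
      rw [smul_mul', smul_mul', Ideal.Quotient.eq_zero_iff_mem]
      exact P.mul_mem_right _ (P.mul_mem_left _ (he0 _ hq.2))
  have h1 := key 1 (one_mem _) (fun γ _ => by rw [smul_one])
  have h2 := key z hz hfix
  rw [map_one, one_mul, one_mul] at h1
  have hm1 : mk (tr (e * u)) ∈ resFix (Γ := Γ) P ⊤ := ⟨_, htr _ (mul_mem heT u.2), rfl⟩
  have hm2 : mk (tr (z * e * u)) ∈ resFix (Γ := Γ) P ⊤ :=
    ⟨_, htr _ (mul_mem (mul_mem hz heT) u.2), rfl⟩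
  have : mk z = mk (tr (z * e * u)) / mk (tr (e * u)) := by
    rw [h2, h1, mul_div_cancel_right₀ _ hu]
  rw [this]
  exact div_mem hm2 hm1

theorem exists_invariant_iff (x : B) :
    (∃ y : B, (∀ γ : Γ, γ ∈ P.inertia Γ → γ • y = y) ∧ x - y ∈ P) ↔
      ∃ g : Polynomial B, (∀ (i : ℕ) (γ : Γ), γ • g.coeff i = g.coeff i) ∧
        (g.map mk).Separable ∧ Polynomial.aeval x g ∈ P := by
  classical
  letI := Ideal.Quotient.field P
  cases nonempty_fintype Γ
  constructor
  · rintro ⟨y, hy, hxy⟩
    let S : Finset (B ⧸ P) := (Finset.univ.filter fun γ : Γ => γ • P = P).image fun γ => mk (γ • y)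
    let p : Polynomial (B ⧸ P) := ∏ s ∈ S, (X - C s)
    have hSim : ∀ s ∈ S, ∃ z ∈ fixSub (P.inertia Γ), mk z = s := by
      intro s hs
      obtain ⟨γ, hγ, rfl⟩ := Finset.mem_image.1 hs
      exact ⟨γ • y, smul_mem_fixSub P (Finset.mem_filter.1 hγ).2 hy, rfl⟩
    choose f hf hf' using hSim
    let q : Polynomial B := ∏ s ∈ S.attach, (X - C (f s.1 s.2))
    have hq : q.map mk = p := by
      rw [Polynomial.map_prod]
      simp only [Polynomial.map_sub, Polynomial.map_X, Polynomial.map_C, hf']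
      exact Finset.prod_attach S (fun s => (X : Polynomial (B ⧸ P)) - C s)
    have hqc : ∀ n, q.coeff n ∈ fixSub (P.inertia Γ) := by
      intro n τ hτ
      rw [← Polynomial.coeff_smul]
      congr 1
      simp only [q, Finset.smul_prod', smul_sub, Polynomial.smul_X, Polynomial.smul_C]
      refine Finset.prod_congr rfl fun s _ => ?_
      rw [hf _ _ τ hτ]
    have hqD : ∀ γ : Γ, γ • P = P → (γ • q).map mk = q.map mk := by
      intro γ hγ
      simp only [q, Finset.smul_prod', smul_sub, Polynomial.smul_X, Polynomial.smul_C,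
        Polynomial.map_prod, Polynomial.map_sub, Polynomial.map_X, Polynomial.map_C]
      let σ : B ⧸ P → B ⧸ P := Quotient.lift (fun b => mk (γ • b))
        (fun a b h => smul_mk_eq P hγ (Quotient.sound h))
      have hσ : ∀ b, σ (mk b) = mk (γ • b) := fun b => rfl
      have hσi : Function.Injective σ := by
        intro a b h
        obtain ⟨a, rfl⟩ := Ideal.Quotient.mk_surjective a
        obtain ⟨b, rfl⟩ := Ideal.Quotient.mk_surjective b
        rw [hσ, hσ] at h
        simpa using smul_mk_eq P (γ := γ⁻¹) (inv_smul_eq_iff.2 hγ.symm) h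
      have hσS : S.image σ = S := by
        refine Finset.eq_of_subset_of_card_le ?_ (by rw [Finset.card_image_of_injective _ hσi])
        intro s hs
        obtain ⟨r, hr, rfl⟩ := Finset.mem_image.1 hs
        obtain ⟨δ, hδ, rfl⟩ := Finset.mem_image.1 hr
        rw [hσ, smul_smul]
        exact Finset.mem_image.2 ⟨γ * δ, Finset.mem_filter.2 ⟨Finset.mem_univ _,
          by rw [mul_smul, (Finset.mem_filter.1 hδ).2, hγ]⟩, rfl⟩
      simp only [← hσ, hf']
      rw [Finset.prod_attach S (fun s => (X : Polynomial (B ⧸ P)) - C (σ s)),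
        Finset.prod_attach S (fun s => (X : Polynomial (B ⧸ P)) - C s)]
      conv_rhs => rw [← hσS, Finset.prod_image hσi.injOn]
    have hco : ∀ n, p.coeff n ∈ resFix (Γ := Γ) P ⊤ := by
      intro n
      rw [← hq, Polynomial.coeff_map]
      refine mem_resFix_top P (hqc n) fun γ hγ => ?_
      have := congrArg (fun r => Polynomial.coeff r n) (hqD γ hγ)
      simpa [Polynomial.coeff_map, Polynomial.coeff_smul] using this
    choose c hc hc' using fun n => (hco n : p.coeff n ∈ (fixSub (B := B) (⊤ : Subgroup Γ)).map mk)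
    let g : Polynomial B := ∑ n ∈ Finset.range (p.natDegree + 1), monomial n (c n)
    have hg : g.map mk = p := by
      simp only [g, Polynomial.map_sum, Polynomial.map_monomial, hc']
      exact (Polynomial.as_sum_range p).symm
    refine ⟨g, fun i γ => ?_, ?_, ?_⟩
    · simp only [g, Polynomial.finsetSum_coeff, Polynomial.coeff_monomial, Finset.sum_ite_eq']
      split_ifs
      · exact hc i γ (Subgroup.mem_top _)
      · exact smul_zero γ
    · rw [hg]
      exact Polynomial.separable_prod_X_sub_C_iff'.2 fun a _ b _ h => h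
    · rw [← Ideal.Quotient.eq_zero_iff_mem, Polynomial.coe_aeval_eq_eval,
        ← Polynomial.eval_map_apply, hg, Polynomial.eval_prod]
      refine Finset.prod_eq_zero (i := mk x) ?_ (by simp)
      refine Finset.mem_image.2 ⟨1, by simp, ?_⟩
      rw [one_smul, Ideal.Quotient.eq.2 hxy]
  · rintro ⟨g, hg, hsep, hgx⟩
    set k1 := resFix (Γ := Γ) P (P.inertia Γ) with hk1
    cases nonempty_fintype (P.inertia Γ)
    let h : B[X] := ∏ τ : P.inertia Γ, (X - C ((τ : Γ) • x))
    have hh : h.map mk = (X - C (mk x)) ^ Fintype.card (P.inertia Γ) := by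
      simp only [h, Polynomial.map_prod, Polynomial.map_sub, Polynomial.map_X, Polynomial.map_C]
      rw [Finset.prod_congr rfl (g := fun _ => (X : Polynomial (B ⧸ P)) - C (mk x))
        (fun τ _ => by rw [Ideal.Quotient.eq.2 (τ.2 x)])]
      simp
    have hliftable : ∀ r : B[X], (∀ n, r.coeff n ∈ fixSub (P.inertia Γ)) →
        ∃ r' : Polynomial k1, r'.map k1.subtype = r.map mk := by
      intro r hr
      have : r.map mk ∈ Polynomial.lifts k1.subtype := by
        rw [Polynomial.lifts_iff_coeff_lifts]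
        intro n
        rw [Polynomial.coeff_map]
        exact ⟨⟨_, r.coeff n, hr n, rfl⟩, rfl⟩
      exact (Polynomial.mem_lifts _).1 this
    obtain ⟨g', hg'⟩ := hliftable g (fun n τ _ => hg n τ)
    obtain ⟨h', hh'⟩ := hliftable h (fun n σ hσ => by
      rw [← Polynomial.coeff_smul]
      congr 1
      simp only [h, Finset.smul_prod', smul_sub, Polynomial.smul_X, Polynomial.smul_C, smul_smul]
      exact Fintype.prod_equiv (Equiv.mulLeft (⟨σ, hσ⟩ : P.inertia Γ)) _ _ (fun τ => rfl))
    have halg : algebraMap k1 (B ⧸ P) = k1.subtype := rfl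
    have hgroot : Polynomial.aeval (mk x) g' = 0 := by
      rw [Polynomial.aeval_def, halg, ← Polynomial.eval_map, hg', Polynomial.eval_map_apply,
        Ideal.Quotient.eq_zero_iff_mem, ← Polynomial.coe_aeval_eq_eval]
      exact hgx
    have hhroot : Polynomial.aeval (mk x) h' = 0 := by
      rw [Polynomial.aeval_def, halg, ← Polynomial.eval_map, hh', hh]
      rw [eval_pow, eval_sub, eval_X, eval_C, sub_self]
      exact zero_pow (Fintype.card_ne_zero (α := P.inertia Γ))
    have hsep' : g'.Separable := by rwa [← Polynomial.separable_map k1.subtype, hg']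
    have hint : IsIntegral k1 (mk x) :=
      IsAlgebraic.isIntegral ⟨g', hsep'.ne_zero, hgroot⟩
    set m := minpoly k1 (mk x) with hm
    have hmd : m.map k1.subtype ∣ (X - C (mk x)) ^ Fintype.card (P.inertia Γ) := by
      rw [← hh, ← hh']
      exact Polynomial.map_dvd _ (minpoly.dvd k1 _ hhroot)
    have hms : (m.map k1.subtype).Separable := (hsep'.of_dvd (minpoly.dvd k1 _ hgroot)).map
    have hspl : (m.map k1.subtype).Splits :=
      Polynomial.Splits.of_dvd ((Polynomial.Splits.X_sub_C _).pow _)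
        (pow_ne_zero _ (Polynomial.X_sub_C_ne_zero _)) hmd
    have hcard : m.natDegree ≤ 1 := by
      rw [← Polynomial.natDegree_map k1.subtype, hspl.natDegree_eq_card_roots]
      rw [← Multiset.toFinset_card_of_nodup (Polynomial.nodup_roots hms)]
      refine Finset.card_le_one.2 ?_
      have hall : ∀ a ∈ (m.map k1.subtype).roots.toFinset, a = mk x := by
        intro a ha
        rw [Multiset.mem_toFinset, Polynomial.mem_roots'] at ha
        have h0 := Polynomial.eval_eq_zero_of_dvd_of_eval_eq_zero hmd ha.2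
        simp only [eval_pow, eval_sub, eval_X, eval_C, pow_eq_zero_iff Fintype.card_ne_zero,
          sub_eq_zero] at h0
        exact h0
      intro a ha b hb
      rw [hall a ha, hall b hb]
    have hdeg : m.degree = 1 := by
      rw [Polynomial.degree_eq_natDegree (minpoly.ne_zero hint)]
      have := minpoly.natDegree_pos hint
      have hn : m.natDegree = 1 := le_antisymm hcard this
      rw [hn, Nat.cast_one]
    obtain ⟨⟨_, y, hy, rfl⟩, hy'⟩ := minpoly.degree_eq_one_iff.1 hdeg
    exact ⟨y, hy, Ideal.Quotient.eq.1 hy'.symm⟩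

end Groth.Agent.InertSep31
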